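/-
Coset enumeration certificate: the assembled result.
-/
import Cfsg.Agent.Lib.Spor.Mults.McLaughlin.Enum4.Part0
import Cfsg.Agent.Lib.Spor.Mults.McLaughlin.Enum4.Part1

namespace CfsgLib.Spor.Mults.McLaughlin.Enum4

open CfsgLib.Spor.TC

theorem steps_ok : cert.StepsWideOK 0 7244 :=
  ((steps0.append _ steps3537).append _ steps6891)

theorem rows_ok : cert.RowsOK 7244 176 0 176 :=
  rows0

theorem row_zero : cert.rowNode 0 = 0 := by decide +kernel

end CfsgLib.Spor.Mults.McLaughlin.Enum4
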